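import Cfsg.Agent.Lib.Transfer.Fusion
import Cfsg.Agent.Lib.PGroups.AutomizerHall

/-!
# Multiplicative conjugacy classes and `p`-solvability

* `Mult p G`: the class of `x y` is the product of the classes, for `p`-elements `x` and
  `p'`-elements `y` of prime power order.
* `Mult.comm_smul`: if a `p`-element `a ≠ 1` is a commutator `[y, u]` then the normal closure of
  `a` stabilises the class of `y` under left multiplication.
* `isPSolvable_of_mult`: such a group is `p`-solvable.
-/

set_option autoImplicit false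
set_option linter.all false

namespace CfsgLib.ClassSizes.ProductOfClasses

open Subgroup
open scoped Pointwise

universe u

variable {p : ℕ} [Fact p.Prime]

/-- The hypothesis on products of classes. -/
def Mult (p : ℕ) (G : Type*) [Group G] : Prop :=
  ∀ x y : G, (∃ a : ℕ, orderOf x = p ^ a) → (∃ q b : ℕ, q.Prime ∧ q ≠ p ∧ orderOf y = q ^ b) →
    ∀ z : G, IsConj (x * y) z ↔ ∃ a b : G, z = a * x * a⁻¹ * (b * y * b⁻¹)

/-- An element of prime power order has a preimage of prime power order. -/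
theorem exists_lift {G K : Type*} [Group G] [Finite G] [Group K] (f : G →* K)
    (hf : Function.Surjective f) {r : ℕ} (hr : r.Prime) {x : K} {a : ℕ} (hx : orderOf x = r ^ a) :
    ∃ y : G, (∃ b : ℕ, orderOf y = r ^ b) ∧ f y = x := by
  obtain ⟨w, rfl⟩ := hf x
  have hcop : Nat.Coprime (ordCompl[r] (orderOf w)) (r ^ a) :=
    Nat.Coprime.pow_right a (Nat.coprime_ordCompl hr (orderOf_pos w).ne').symm
  obtain ⟨e, he⟩ : ∃ e, ordCompl[r] (orderOf w) * e ≡ 1 [MOD r ^ a] := by
    rcases Nat.eq_zero_or_pos a with ha | ha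
    · exact ⟨0, by rw [ha, pow_zero]; exact Nat.modEq_one⟩
    · obtain ⟨e, he⟩ := Nat.exists_mul_mod_eq_one_of_coprime hcop (Nat.one_lt_pow ha.ne' hr.one_lt)
      exact ⟨e, by rw [Nat.ModEq, he.2, Nat.one_mod_eq_one.2 (Nat.one_lt_pow ha.ne' hr.one_lt).ne']⟩
  refine ⟨w ^ (ordCompl[r] (orderOf w) * e), ?_, ?_⟩
  · obtain ⟨b, -, hb⟩ := (Nat.dvd_prime_pow hr).1 (show orderOf (w ^ (ordCompl[r] (orderOf w) * e))
        ∣ r ^ (orderOf w).factorization r from orderOf_dvd_of_pow_eq_one (by
      rw [← pow_mul, mul_right_comm, mul_comm (ordCompl[r] (orderOf w)),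
        Nat.ordProj_mul_ordCompl_eq_self, pow_mul, pow_orderOf_eq_one, one_pow]))
    exact ⟨b, hb⟩
  · rw [map_pow]
    conv_rhs => rw [← pow_one (f w)]
    rw [pow_eq_pow_iff_modEq, hx]
    exact he

theorem Mult.quotient {G : Type*} [Group G] [Finite G] (h : Mult p G) (N : Subgroup G) [N.Normal] :
    Mult p (G ⧸ N) := by
  have hs := QuotientGroup.mk'_surjective N
  rintro x y ⟨i, hi⟩ ⟨q, j, hq, hqp, hj⟩ z
  obtain ⟨x, hx, rfl⟩ := exists_lift (QuotientGroup.mk' N) hs (Fact.out : p.Prime) hi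
  obtain ⟨y, ⟨j', hj'⟩, rfl⟩ := exists_lift (QuotientGroup.mk' N) hs hq hj
  constructor
  · intro hz
    obtain ⟨c, hc⟩ := isConj_iff.1 hz
    obtain ⟨c, rfl⟩ := hs c
    obtain ⟨a, b, hab⟩ := (h x y hx ⟨q, j', hq, hqp, hj'⟩ (c * (x * y) * c⁻¹)).1
      (isConj_iff.2 ⟨c, rfl⟩)
    refine ⟨QuotientGroup.mk' N a, QuotientGroup.mk' N b, ?_⟩
    rw [← hc]
    simpa using congrArg (QuotientGroup.mk' N) hab
  · rintro ⟨a, b, rfl⟩
    obtain ⟨a, rfl⟩ := hs a
    obtain ⟨b, rfl⟩ := hs b
    have := (QuotientGroup.mk' N).map_isConj ((h x y hx ⟨q, j', hq, hqp, hj'⟩ _).2 ⟨a, b, rfl⟩)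
    simpa using this

/-- If a `p`-element is `[y, u]`, its normal closure stabilises the class of `y`. -/
theorem Mult.comm_smul {G : Type*} [Group G] [Finite G] (h : Mult p G) {y u : G} {q j : ℕ}
    (hq : q.Prime) (hqp : q ≠ p) (hy : orderOf y = q ^ j)
    (ha : ∃ k, orderOf (y⁻¹ * (u⁻¹ * y * u)) = p ^ k) :
    normalClosure {y⁻¹ * (u⁻¹ * y * u)} ≤ MulAction.stabilizer G {z : G | IsConj y z} := by
  set a := y⁻¹ * (u⁻¹ * y * u) with ha'
  have h0 := h a y ha ⟨q, j, hq, hqp, hy⟩
  have h1 : IsConj (a * y) (y * a) := (h0 _).2 ⟨y, 1, by group⟩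
  have h2 : IsConj y (a * y) := by
    refine IsConj.trans ?_ h1.symm
    rw [ha', mul_inv_cancel_left]
    exact isConj_iff.2 ⟨u⁻¹, by group⟩
  rw [normalClosure, closure_le]
  intro m hm
  obtain ⟨b, hb, hbm⟩ := Group.mem_conjugatesOfSet_iff.1 hm
  rw [Set.mem_singleton_iff] at hb
  subst hb
  obtain ⟨c, rfl⟩ := isConj_iff.1 hbm
  rw [SetLike.mem_coe, MulAction.mem_stabilizer_set' (Set.toFinite _)]
  intro w hw
  obtain ⟨d, rfl⟩ := isConj_iff.1 hw
  exact h2.trans ((h0 _).2 ⟨c, d, rfl⟩)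

theorem eq_top_of_primary {G : Type*} [Group G] [Finite G] {g : G} {C : Subgroup G}
    (h : ∀ r : ℕ, r.Prime → r ∣ orderOf g → g ^ ordCompl[r] (orderOf g) ∈ C) : g ∈ C := by
  have hdvd : Nat.card (zpowers g) ∣ Nat.card ↥(C ⊓ zpowers g) := by
    rw [Nat.card_zpowers]
    refine (Nat.dvd_iff_prime_pow_dvd_dvd _ _).2 fun r k hr hk => ?_
    rcases Nat.eq_zero_or_pos k with hk0 | hk0
    · rw [hk0, pow_zero]; exact one_dvd _
    have hrg : r ∣ orderOf g := (dvd_pow_self r hk0.ne').trans hk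
    refine (((hr.pow_dvd_iff_dvd_ordProj (orderOf_pos g).ne').1 hk).trans ?_)
    have h1 : orderOf (g ^ ordCompl[r] (orderOf g)) = ordProj[r] (orderOf g) := by
      rw [orderOf_pow_of_dvd (Nat.ordCompl_pos r (orderOf_pos g).ne').ne' (Nat.ordCompl_dvd _ _),
        Nat.div_div_self (Nat.ordProj_dvd _ _) (orderOf_pos g).ne']
    rw [← h1]
    exact Subgroup.orderOf_dvd_natCard _ ⟨h r hr hrg, pow_mem (mem_zpowers g) _⟩
  have heq := Subgroup.eq_of_le_of_card_ge (inf_le_right : C ⊓ zpowers g ≤ zpowers g)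
    (Nat.le_of_dvd Nat.card_pos hdvd)
  exact (heq.ge (mem_zpowers g)).1

theorem isPSolvable_of_mult_aux : ∀ (n : ℕ) (G : Type u) [Group G] [Finite G],
    Nat.card G = n → Mult p G → Cfsg.IsPSolvable p G := by
  intro n
  induction n using Nat.strong_induction_on with
  | _ n ih =>
  intro G _ _ hn h
  classical
  have hp : p.Prime := Fact.out
  rcases subsingleton_or_nontrivial G with hG | hG
  · exact ⟨0, fun _ => ⊥, rfl, Subsingleton.elim _ _, monotone_const, fun _ => inferInstance,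
      fun i => i.elim0⟩
  obtain ⟨N, ⟨hN, hNne⟩, hmin⟩ := WellFounded.has_min
    (wellFounded_lt : WellFounded ((· < ·) : Subgroup G → Subgroup G → Prop))
    {N : Subgroup G | N.Normal ∧ N ≠ ⊥} ⟨⊤, inferInstance, top_ne_bot⟩
  have hsol : Cfsg.IsPSolvable p (G ⧸ N) := by
    refine ih _ ?_ (G ⧸ N) rfl (h.quotient N)
    rw [← hn, card_eq_card_quotient_mul_card_subgroup N]
    exact lt_mul_of_one_lt_right Nat.card_pos ((one_lt_card_iff_ne_bot N).2 hNne)
  by_cases hpN : p ∣ Nat.card N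
  swap
  · exact PGroups.Automizer.isPSolvable_of_sandwich ⊥ N bot_le IsPGroup.of_bot
      (by rwa [relIndex_bot_left]) hsol
  suffices hNp : IsPGroup p N from
    PGroups.Automizer.isPSolvable_of_sandwich N N le_rfl hNp
      (by rw [relIndex_self]; exact hp.not_dvd_one) hsol
  -- the minimal normal subgroup has a normal `p`-complement
  obtain ⟨P⟩ : Nonempty (Sylow p N) := inferInstance
  have hcompl : Cfsg.HasNormalPComplement p N := by
    refine Transfer.hasNormalPComplement_of_centralizes P fun Q hQ g hg hcop => ?_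
    refine eq_top_of_primary fun r hr hrg => mem_centralizer_iff.2 fun v hv => ?_
    set y : N := g ^ ordCompl[r] (orderOf g) with hy
    by_contra hne
    have hrp : r ≠ p := fun e => hp.not_dvd_one (hcop.gcd_eq_one ▸ Nat.dvd_gcd (e ▸ hrg) dvd_rfl)
    have hyo : orderOf (y : G) = r ^ (orderOf g).factorization r := by
      rw [Subgroup.orderOf_coe, hy, orderOf_pow_of_dvd (Nat.ordCompl_pos r (orderOf_pos g).ne').ne'
        (Nat.ordCompl_dvd _ _), Nat.div_div_self (Nat.ordProj_dvd _ _) (orderOf_pos g).ne']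
    have hyQ : y⁻¹ ∈ normalizer (Q : Set N) := inv_mem (pow_mem hg _)
    have hw : y⁻¹ * v⁻¹ * y * v ∈ Q := by
      refine mul_mem ?_ hv
      have := (mem_normalizer_iff.1 hyQ v⁻¹).1 (inv_mem hv)
      rwa [inv_inv] at this
    set a : G := (y : G)⁻¹ * ((v : G)⁻¹ * y * v) with ha
    have haN : a = ((y⁻¹ * v⁻¹ * y * v : N) : G) := by
      rw [ha]; push_cast; group
    have hap : ∃ k, orderOf a = p ^ k := by
      obtain ⟨k, hk⟩ := IsPGroup.iff_orderOf.1 P.isPGroup' ⟨_, hQ hw⟩
      refine ⟨k, ?_⟩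
      rw [haN, Subgroup.orderOf_coe]
      simpa using hk
    have ha1 : a ≠ 1 := by
      intro e
      apply hne
      have e1 : (y⁻¹ * v⁻¹ * y * v : N) = 1 := Subtype.ext (by rw [← haN, e]; rfl)
      calc v * y = (v * y) * (y⁻¹ * v⁻¹ * y * v) := by rw [e1, mul_one]
        _ = y * v := by group
    have hle : normalClosure {a} ≤ N :=
      normalClosure_le_normal (Set.singleton_subset_iff.2 (haN ▸ SetLike.coe_mem _))
    have heq : normalClosure {a} = N := by
      by_contra hne'
      refine hmin (normalClosure {a}) ⟨normalClosure_normal, ?_⟩ (lt_of_le_of_ne hle hne')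
      exact fun e => ha1 (Subgroup.mem_bot.1 (e ▸ subset_normalClosure rfl))
    have hstab := h.comm_smul hr hrp hyo hap
    rw [heq] at hstab
    have h3 := (MulAction.mem_stabilizer_set' (Set.toFinite _)).1
      (hstab (inv_mem y.2 : (y : G)⁻¹ ∈ N)) (IsConj.refl (y : G))
    rw [smul_eq_mul, inv_mul_cancel] at h3
    have hy1 : y = 1 := Subtype.ext (isConj_one_left.1 h3 : (y : G) = 1)
    exact hne (by rw [hy1, mul_one, one_mul])
  obtain ⟨P', K, hK, hKc⟩ := hcompl
  haveI := hK
  haveI hKch : K.Characteristic := by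
    have hKp : ¬ p ∣ Nat.card K := by
      intro hd
      have hc := P'.card_eq_multiplicity
      have h1 := hKc.card_mul
      have h2 : p ^ ((Nat.card N).factorization p + 1) ∣ Nat.card N := by
        rw [pow_succ', ← hc, ← h1]
        exact mul_dvd_mul_right hd _
      have := (hp.pow_dvd_iff_le_factorization Nat.card_pos.ne').1 h2
      omega
    refine Subgroup.characteristic_iff_map_le.2 fun φ x hx => ?_
    obtain ⟨k, hk, rfl⟩ := hx
    obtain ⟨i, hi⟩ := IsPGroup.iff_card.1 P'.isPGroup'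
    have h1 : Nat.card (N ⧸ K) = p ^ i := by
      rw [← Subgroup.index_eq_card, (Subgroup.IsComplement'.symm hKc).index_eq_card, hi]
    have h2 : (QuotientGroup.mk (φ k) : N ⧸ K) ^ (p ^ i) = 1 := by rw [← h1]; exact pow_card_eq_one'
    have h3 : (QuotientGroup.mk (φ k) : N ⧸ K) ^ Nat.card K = 1 := by
      rw [← QuotientGroup.mk_pow, ← map_pow,
        orderOf_dvd_iff_pow_eq_one.1 (Subgroup.orderOf_dvd_natCard K hk), map_one,
        QuotientGroup.mk_one]
    have := pow_gcd_eq_one.2 ⟨h2, h3⟩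
    rw [Nat.coprime_iff_gcd_eq_one.1
      (Nat.Coprime.pow_left i (hp.coprime_iff_not_dvd.2 hKp)), pow_one] at this
    exact (QuotientGroup.eq_one_iff _).1 this
  haveI : (K.map N.subtype).Normal := inferInstance
  rcases eq_or_ne K ⊥ with rfl | hK1
  · have : (P' : Subgroup N) = ⊤ := Subgroup.isComplement'_bot_left.1 hKc
    exact IsPGroup.of_equiv (this ▸ P'.isPGroup') Subgroup.topEquiv
  · exfalso
    have hlt : K.map N.subtype < N := by
      refine lt_of_le_of_ne (map_subtype_le K) fun e => ?_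
      have hKt : K = ⊤ := map_injective N.subtype_injective (e.trans (by rw [← MonoidHom.range_eq_map, range_subtype]))
      subst hKt
      have : (P' : Subgroup N) = ⊥ := Subgroup.isComplement'_top_left.1 hKc
      exact P'.ne_bot_of_dvd_card hpN this
    exact hmin _ ⟨inferInstance, fun e => hK1 ((map_eq_bot_iff_of_injective K N.subtype_injective).1 e)⟩ hlt

/-- A group with multiplicative classes for `p` is `p`-solvable. -/
theorem isPSolvable_of_mult {G : Type u} [Group G] [Finite G] (h : Mult p G) :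
    Cfsg.IsPSolvable p G :=
  isPSolvable_of_mult_aux _ G rfl h

end CfsgLib.ClassSizes.ProductOfClasses
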